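import Cfsg.Agent.Spor.HeA1.D0

set_option autoImplicit false
set_option maxRecDepth 100000000
set_option Elab.async false

namespace Cfsg.Agent.Spor.HeA1

theorem ok0 : Net.okb 1 n0 = true := by decide +kernel

theorem ok1 : Net.okb 1 n1 = true := by decide +kernel

theorem ok2 : Net.okb 1 n2 = true := by decide +kernel

theorem ok3 : Net.okb 1 n3 = true := by decide +kernel

theorem ok4 : Net.okb 1 n4 = true := by decide +kernel

theorem ok5 : Net.okb 1 n5 = true := by decide +kernel

theorem ok6 : Net.okb 1 n6 = true := by decide +kernel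

theorem rel0 : T.rel 1 [1, 1] 0 1 = true := by decide +kernel

theorem rel1 : T.rel 1 [2, 2] 0 1 = true := by decide +kernel

theorem rel2 : T.rel 1 [3, 3] 0 1 = true := by decide +kernel

theorem rel3 : T.rel 1 [4, 4] 0 1 = true := by decide +kernel

theorem rel4 : T.rel 1 [5, 5] 0 1 = true := by decide +kernel

theorem rel5 : T.rel 1 [6, 6] 0 1 = true := by decide +kernel

theorem rel6 : T.rel 1 [7, 7] 0 1 = true := by decide +kernel

theorem rel7 : T.rel 1 [2, 1, 2, 1, 2, 1, 2, 1] 0 1 = true := by decide +kernel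

theorem rel8 : T.rel 1 [3, 1, 3, 1] 0 1 = true := by decide +kernel

theorem rel9 : T.rel 1 [4, 1, 4, 1] 0 1 = true := by decide +kernel

theorem rel10 : T.rel 1 [5, 1, 5, 1] 0 1 = true := by decide +kernel

theorem rel11 : T.rel 1 [6, 1, 6, 1] 0 1 = true := by decide +kernel

theorem rel12 : T.rel 1 [7, 1, 7, 1] 0 1 = true := by decide +kernel

theorem rel13 : T.rel 1 [3, 2, 3, 2, 3, 2] 0 1 = true := by decide +kernel

theorem rel14 : T.rel 1 [4, 2, 4, 2] 0 1 = true := by decide +kernel

theorem rel15 : T.rel 1 [5, 2, 5, 2] 0 1 = true := by decide +kernel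

theorem rel16 : T.rel 1 [6, 2, 6, 2] 0 1 = true := by decide +kernel

theorem rel17 : T.rel 1 [7, 2, 7, 2] 0 1 = true := by decide +kernel

theorem rel18 : T.rel 1 [4, 3, 4, 3, 4, 3, 4, 3, 4, 3, 4, 3, 4, 3, 4, 3, 4, 3, 4, 3] 0 1 = true := by decide +kernel

theorem rel19 : T.rel 1 [5, 3, 5, 3] 0 1 = true := by decide +kernel

theorem rel20 : T.rel 1 [6, 3, 6, 3] 0 1 = true := by decide +kernel

theorem rel21 : T.rel 1 [7, 3, 7, 3] 0 1 = true := by decide +kernel

theorem rel22 : T.rel 1 [5, 4, 5, 4, 5, 4] 0 1 = true := by decide +kernel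

theorem rel23 : T.rel 1 [6, 4, 6, 4, 6, 4] 0 1 = true := by decide +kernel

theorem rel24 : T.rel 1 [7, 4, 7, 4, 7, 4] 0 1 = true := by decide +kernel

theorem rel25 : T.rel 1 [6, 5, 6, 5] 0 1 = true := by decide +kernel

theorem rel26 : T.rel 1 [7, 5, 7, 5] 0 1 = true := by decide +kernel

theorem rel27 : T.rel 1 [7, 6, 7, 6, 7, 6, 7, 6] 0 1 = true := by decide +kernel

theorem rel28 : T.rel 1 [6, 7, 6, 7, 5] 0 1 = true := by decide +kernel

theorem rel29 : T.rel 1 [1, 2, 3, 1, 2, 3, 1, 2, 3, 5] 0 1 = true := by decide +kernel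

theorem rel30 : T.rel 1 [3, 4, 3, 4, 3, 4, 3, 4, 3, 4, 1] 0 1 = true := by decide +kernel

theorem rel31 : T.rel 1 [7, 6, 4, 3, 7, 6, 4, 3, 7, 6, 4, 3, 7, 6, 4, 3] 0 1 = true := by decide +kernel

theorem rel32 : T.rel 1 [2, 1, 2, 1] 0 1 = true := by decide +kernel

theorem rel33 : T.rel 1 [3, 2, 3, 2] 0 1 = true := by decide +kernel

theorem rel34 : T.rel 1 [4, 3, 4, 3] 0 1 = true := by decide +kernel

theorem rel35 : T.rel 1 [5, 4, 5, 4] 0 1 = true := by decide +kernel

theorem rel36 : T.rel 1 [6, 4, 6, 4] 0 1 = true := by decide +kernel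

theorem rel37 : T.rel 1 [7, 4, 7, 4] 0 1 = true := by decide +kernel

theorem rel38 : T.rel 1 [7, 6, 7, 6] 0 1 = true := by decide +kernel

theorem hcov : T.treeCov (ones 1) L 1 = true := by decide +kernel

theorem hg : lall (fun z => band (memL L z) (band (sub (ones 1) (T.let z).cl) (T.closed (ones 1) z))) gs = true := by decide +kernel

theorem hivk : ivOk (2 * 7) EX IV = true := by decide +kernel

theorem hrt : RT.ok (2 * 7) EX RL = true := by decide +kernel

theorem hdefs : defs F 20 = true := by decide +kernel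

noncomputable def st0_l : List Nat := [nat_lit 0xe0000100000003, nat_lit 0x100000100001403, nat_lit 0x1500004000004000050001500004006, nat_lit 0x2b0001680000803, nat_lit 0x1700004002, nat_lit 0xe0001800000003, nat_lit 0xc0000060000f000198000a00001c000300000180003c09, nat_lit 0x40000c40000400000000190000a40000200031000010000000a, nat_lit 0x1b00002002, nat_lit 0x120000100001c03, nat_lit 0x120001800001c03, nat_lit 0x120001800001c00078000120001800001c0007800012000180000000b, nat_lit 0x290001f0000ec03, nat_lit 0x1f00004802, nat_lit 0x2000003802, nat_lit 0x200000d002, nat_lit 0x2380010800072000070002380010806, nat_lit 0x440002480000403, nat_lit 0x2500010802, nat_lit 0x140000500000003, nat_lit 0xa0002680013803, nat_lit 0x2780013000016000510002780013006, nat_lit 0x150002980000003, nat_lit 0x2a00002802, nat_lit 0x18000560001c80003404, nat_lit 0x1a000580000600015804, nat_lit 0x80016c02, nat_lit 0x160002e80005c03, nat_lit 0x1e0000c00005803, nat_lit 0xf8001840002e000190000f80018406, nat_lit 0x1e0003180005c03, nat_lit 0x3200018402,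 nat_lit 0xe0001780002c000660002f000058000cc0005e0000b0001980a, nat_lit 0x3400007002, nat_lit 0x1a0003500006c03, nat_lit 0xd0001a8000360006c0000d0001a806, nat_lit 0x3700006802, nat_lit 0x170003800005803, nat_lit 0x71000338001cc000cc00071000338001cc000cc000710002f80019c0b, nat_lit 0xb8001d402, nat_lit 0x200003b80008403, nat_lit 0x3c000080000ec000210003c00008006, nat_lit 0x108001ec02, nat_lit 0x1f0000ec0005c0003e0001d8000b80007c0003b80017409, nat_lit 0x220003f80008c03, nat_lit 0x40000088000fc000230004000008806, nat_lit 0x1180020c02, nat_lit 0x240004280009403, nat_lit 0x4300009000108000250004300009006, nat_lit 0x1280022402, nat_lit 0x260004280009c03, nat_lit 0x4600009800108000270004600009806, nat_lit 0x1380023c02]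
theorem st0 : band (steps F IV RT base st0_l 20) (Nat.beq (Nat.add 20 (llen st0_l)) 73) = true := by decide +kernel

theorem ep0a : T.treePath [] (Nat.shiftLeft 1 0) 1 = true := by decide +kernel

theorem ep0b : T.treePath [] (Nat.shiftLeft 1 0) 1 = true := by decide +kernel

theorem ep0c : band (lall (fun z => Nat.ble z 255) ([] ++ 1 :: [])) (concl F IV 73 0x17001 (encA ([] ++ 1 :: []) 0)) = true := by decide +kernel

theorem ep0d : band (Rule.ok (2 * 7) EX [] ⟨lapp [] [], [], 0, false⟩) (band (lall (memL L) []) (lall (memL L) [])) = true := by decide +kernel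

theorem cov1 : T.cover 1 [(Nat.shiftLeft 1 0)] = true := by decide +kernel

theorem tl1 : Nat.beq (T.let 1).tt 0 = true := by decide +kernel

theorem ep1a : T.treePath [] (Nat.shiftLeft 1 0) 1 = true := by decide +kernel

theorem ep1b : T.treePath [] (Nat.shiftLeft 1 0) 1 = true := by decide +kernel

theorem ep1c : band (lall (fun z => Nat.ble z 255) ([] ++ 2 :: [])) (concl F IV 73 0x1d801 (encA ([] ++ 2 :: []) 0)) = true := by decide +kernel

theorem ep1d : band (Rule.ok (2 * 7) EX [] ⟨lapp [] [], [], 0, false⟩) (band (lall (memL L) []) (lall (memL L) [])) = true := by decide +kernel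

theorem cov2 : T.cover 2 [(Nat.shiftLeft 1 0)] = true := by decide +kernel

theorem tl2 : Nat.beq (T.let 2).tt 0 = true := by decide +kernel

theorem ep2a : T.treePath [] (Nat.shiftLeft 1 0) 1 = true := by decide +kernel

theorem ep2b : T.treePath [] (Nat.shiftLeft 1 0) 1 = true := by decide +kernel

theorem ep2c : band (lall (fun z => Nat.ble z 255) ([] ++ 3 :: [])) (concl F IV 73 0x1f001 (encA ([] ++ 3 :: []) 0)) = true := by decide +kernel

theorem ep2d : band (Rule.ok (2 * 7) EX [] ⟨lapp [] [], [], 0, false⟩) (band (lall (memL L) []) (lall (memL L) [])) = true := by decide +kernel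

theorem cov3 : T.cover 3 [(Nat.shiftLeft 1 0)] = true := by decide +kernel

theorem tl3 : Nat.beq (T.let 3).tt 0 = true := by decide +kernel

theorem ep3a : T.treePath [] (Nat.shiftLeft 1 0) 1 = true := by decide +kernel

theorem ep3b : T.treePath [] (Nat.shiftLeft 1 0) 1 = true := by decide +kernel

theorem ep3c : band (lall (fun z => Nat.ble z 255) ([] ++ 4 :: [])) (concl F IV 73 0x21001 (encA ([] ++ 4 :: []) 0)) = true := by decide +kernel

theorem ep3d : band (Rule.ok (2 * 7) EX [] ⟨lapp [] [], [], 0, false⟩) (band (lall (memL L) []) (lall (memL L) [])) = true := by decide +kernel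

theorem cov4 : T.cover 4 [(Nat.shiftLeft 1 0)] = true := by decide +kernel

theorem tl4 : Nat.beq (T.let 4).tt 0 = true := by decide +kernel

theorem rot5_1 : T.rot 5 [1, 2, 3, 1, 2, 3, 1, 2, 3] (sel (ones 1) ip5 1) = true := by decide +kernel

theorem rot5_1r : band (Rule.ok (2 * 7) EX RL ⟨5 :: [1, 2, 3, 1, 2, 3, 1, 2, 3], [8], 22, true⟩) (lall (memL L) [1, 2, 3, 1, 2, 3, 1, 2, 3]) = true := by decide +kernel

theorem cov5 : T.cover 5 [(sel (ones 1) ip5 1)] = true := by decide +kernel

theorem tl5 : Nat.beq (T.let 5).tt 0 = true := by decide +kernel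

theorem ep4a : T.treePath [] (Nat.shiftLeft 1 0) 1 = true := by decide +kernel

theorem ep4b : T.treePath [] (Nat.shiftLeft 1 0) 1 = true := by decide +kernel

theorem ep4c : band (lall (fun z => Nat.ble z 255) ([] ++ 6 :: [])) (concl F IV 73 0x22801 (encA ([] ++ 6 :: []) 0)) = true := by decide +kernel

theorem ep4d : band (Rule.ok (2 * 7) EX [] ⟨lapp [] [], [], 0, false⟩) (band (lall (memL L) []) (lall (memL L) [])) = true := by decide +kernel

theorem cov6 : T.cover 6 [(Nat.shiftLeft 1 0)] = true := by decide +kernel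

theorem tl6 : Nat.beq (T.let 6).tt 0 = true := by decide +kernel

theorem ep5a : T.treePath [] (Nat.shiftLeft 1 0) 1 = true := by decide +kernel

theorem ep5b : T.treePath [] (Nat.shiftLeft 1 0) 1 = true := by decide +kernel

theorem ep5c : band (lall (fun z => Nat.ble z 255) ([] ++ 7 :: [])) (concl F IV 73 0x24001 (encA ([] ++ 7 :: []) 0)) = true := by decide +kernel

theorem ep5d : band (Rule.ok (2 * 7) EX [] ⟨lapp [] [], [], 0, false⟩) (band (lall (memL L) []) (lall (memL L) [])) = true := by decide +kernel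

theorem cov7 : T.cover 7 [(Nat.shiftLeft 1 0)] = true := by decide +kernel

theorem tl7 : Nat.beq (T.let 7).tt 0 = true := by decide +kernel

end Cfsg.Agent.Spor.HeA1
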