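import Cfsg.Agent.Spor.Chk

set_option autoImplicit false
set_option maxRecDepth 100000000
set_option Elab.async false
noncomputable section

namespace Cfsg.Agent.Spor.HeA1

def n0 : Net := Net.nil

def n1 : Net := Net.nil

def n2 : Net := Net.nil

def n3 : Net := Net.nil

def n4 : Net := Net.nil

def n5 : Net := Net.nil

def n6 : Net := Net.nil

def ip1 : List Nat := []
def l1 : Let := ⟨0, false, 0x1, 0x0, [0x0]⟩

def ip2 : List Nat := []
def l2 : Let := ⟨1, false, 0x1, 0x0, [0x0]⟩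

def ip3 : List Nat := []
def l3 : Let := ⟨2, false, 0x1, 0x0, [0x0]⟩

def ip4 : List Nat := []
def l4 : Let := ⟨3, false, 0x1, 0x0, [0x0]⟩

def ip5 : List Nat := [0x1]
def l5 : Let := ⟨4, false, 0x1, 0x0, [0x1]⟩

def ip6 : List Nat := []
def l6 : Let := ⟨5, false, 0x1, 0x0, [0x0]⟩

def ip7 : List Nat := []
def l7 : Let := ⟨6, false, 0x1, 0x0, [0x0]⟩

def F : Nat := nat_lit 0x70000000000000001400014040001400000060000000000000001300013040001300000040000000000000001200012050001200000050000000000030000000000000001100011020001100000020000000000000000c0000004000000000c040000c0000c000000e0000e050000e0000c050000c0000c000000f00000030000c0000c000001000000000000d0000003000100000c010000c00000010000000000000000100007060000700001060000000000000000600001000000b0000b040000600000060000b00000040000100001000000200000000000400002050000400002010000400002040000000004000000800000000000a00004030000a00004020000a00001050000000000000000500008050000200000030000800002030000100001000000900002000000300003020000900000020000800014070000000013060000000012040000000011030000000010020000d0000f050000c0000e040000c0000d030000c0000c02000000000b01000060000a0400002000090300002000080100002000070700001000060600001000050500001000040400001000030300001000020200001000010100000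

def rt0_8 : RTree := RTree.node 0x505 ⟨[5, 5], [], 46, false⟩ (RTree.node 0x303 ⟨[3, 3], [], 46, false⟩ (RTree.node 0x202 ⟨[2, 2], [], 46, false⟩ (RTree.node 0x101 ⟨[1, 1], [], 46, false⟩ (RTree.leaf) (RTree.leaf)) (RTree.leaf)) (RTree.node 0x404 ⟨[4, 4], [], 46, false⟩ (RTree.leaf) (RTree.leaf))) (RTree.node 0x707 ⟨[7, 7], [], 46, false⟩ (RTree.node 0x606 ⟨[6, 6], [], 46, false⟩ (RTree.leaf) (RTree.leaf)) (RTree.node 0x1020102 ⟨[1, 2, 1, 2], [], 25, false⟩ (RTree.leaf) (RTree.leaf)))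
def rt0_16 : RTree := RTree.node 0x2010201 ⟨[2, 1, 2, 1], [], 25, true⟩ (rt0_8) (RTree.node 0x3020302 ⟨[3, 2, 3, 2], [], 31, true⟩ (RTree.node 0x2040204 ⟨[2, 4, 2, 4], [], 7, false⟩ (RTree.node 0x2030203 ⟨[2, 3, 2, 3], [], 31, false⟩ (RTree.leaf) (RTree.leaf)) (RTree.node 0x3010301 ⟨[3, 1, 3, 1], [], 1, true⟩ (RTree.leaf) (RTree.leaf))) (RTree.node 0x4020402 ⟨[4, 2, 4, 2], [], 7, true⟩ (RTree.node 0x3040304 ⟨[3, 4, 3, 4], [], 36, false⟩ (RTree.leaf) (RTree.leaf)) (RTree.node 0x4060406 ⟨[4, 6, 4, 6], [], 41, false⟩ (RTree.leaf) (RTree.leaf))))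
def rt17_32 : RTree := RTree.node 0x50405040504 ⟨[5, 4, 5, 4, 5, 4], [], 15, true⟩ (RTree.node 0x607050607 ⟨[6, 7, 5, 6, 7], [10, 12], 21, true⟩ (RTree.node 0x6010601 ⟨[6, 1, 6, 1], [], 4, true⟩ (RTree.node 0x5040504 ⟨[5, 4, 5, 4], [], 40, true⟩ (RTree.leaf) (RTree.leaf)) (RTree.node 0x6070607 ⟨[6, 7, 6, 7], [], 45, false⟩ (RTree.leaf) (RTree.leaf))) (RTree.node 0x40504050405 ⟨[4, 5, 4, 5, 4, 5], [], 15, false⟩ (RTree.node 0x30203020302 ⟨[3, 2, 3, 2, 3, 2], [], 6, true⟩ (RTree.leaf) (RTree.leaf)) (RTree.node 0x40604060406 ⟨[4, 6, 4, 6, 4, 6], [], 16, false⟩ (RTree.leaf) (RTree.leaf)))) (RTree.node 0x3020103020103020105 ⟨[3, 2, 1, 3, 2, 1, 3, 2, 1, 5], [8], 22, false⟩ (RTree.node 0x70407040704 ⟨[7, 4, 7, 4, 7, 4], [], 17, true⟩ (RTree.node 0x60406040604 ⟨[6, 4, 6, 4, 6, 4], [], 16, true⟩ (RTree.leaf) (RTree.leaf)) (RTree.node 0x1020301020301020305 ⟨[1, 2, 3, 1, 2, 3, 1, 2, 3, 5], [], 22, true⟩ (RTree.leaf)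 (RTree.leaf))) (RTree.node 0x103040304030403040304 ⟨[1, 3, 4, 3, 4, 3, 4, 3, 4, 3, 4], [0], 23, true⟩ (RTree.node 0x5010203010203010203 ⟨[5, 1, 2, 3, 1, 2, 3, 1, 2, 3], [8], 22, true⟩ (RTree.leaf) (RTree.leaf)) (RTree.node 0x301040304030403040304 ⟨[3, 1, 4, 3, 4, 3, 4, 3, 4, 3, 4], [4], 23, false⟩ (RTree.leaf) (RTree.leaf))))
def rt0_32 : RTree := RTree.node 0x4070407 ⟨[4, 7, 4, 7], [], 42, false⟩ (rt0_16) (rt17_32)
def RT : RTree := rt0_32

def NT : List Net := [n0, n1, n2, n3, n4, n5, n6]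
def LT : List Let := [⟨0, false, 0, 0, []⟩, l1, l2, l3, l4, l5, l6, l7]
def T : Tab := ⟨NT, LT⟩
def EX : List (List Nat) := [[], [0], [2], [4], [6], [8], [10], [12]]
def RL : List (List Nat) := [[0, 2, 0, 2, 0, 2, 0, 2], [0, 4, 0, 4], [0, 6, 0, 6], [0, 8, 0, 8], [0, 10, 0, 10], [0, 12, 0, 12], [2, 4, 2, 4, 2, 4], [2, 6, 2, 6], [2, 8, 2, 8], [2, 10, 2, 10], [2, 12, 2, 12], [4, 6, 4, 6, 4, 6, 4, 6, 4, 6, 4, 6, 4, 6, 4, 6, 4, 6, 4, 6], [4, 8, 4, 8], [4, 10, 4, 10], [4, 12, 4, 12], [6, 8, 6, 8, 6, 8], [6, 10, 6, 10, 6, 10], [6, 12, 6, 12, 6, 12], [8, 10, 8, 10], [8, 12, 8, 12], [10, 12, 10, 12, 10, 12, 10, 12], [8, 12, 10, 12, 10], [8, 4, 2, 0, 4, 2, 0, 4, 2, 0], [0, 6, 4, 6, 4, 6, 4, 6, 4, 6, 4], [4, 6, 10, 12, 4, 6, 10, 12, 4, 6, 10, 12, 4, 6, 10, 12], [0, 2, 0, 2], [0, 4, 0, 4], [0, 6, 0, 6], [0, 8, 0, 8], [0, 10, 0, 10], [0, 12, 0, 12], [2, 4, 2, 4], [2, 6, 2, 6], [2, 8, 2, 8], [2, 10, 2, 10], [2,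 12, 2, 12], [4, 6, 4, 6], [4, 8, 4, 8], [4, 10, 4, 10], [4, 12, 4, 12], [6, 8, 6, 8], [6, 10, 6, 10], [6, 12, 6, 12], [8, 10, 8, 10], [8, 12, 8, 12], [10, 12, 10, 12]]
def XL : List (List Nat) := []
def BW : List (List Nat) := []
def IV : Nat := 0x706050403020100
def L : List Nat := [1, 2, 3, 4, 5, 6, 7]
def gs : List Nat := [1, 2, 3, 4, 5, 6, 7]
def base : List Nat := []

end Cfsg.Agent.Spor.HeA1
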